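import Cfsg.Agent.CosetCert.SuzIndex22880.Defs

/-! Generated: kernel checks. -/

set_option Elab.async false

namespace Cfsg.Agent.CosetCert.SuzIndex22880

theorem rels_okAt5000 : allFrom data.checkRels 5000 500 = true := by decide +kernel

theorem rels_okAt5500 : allFrom data.checkRels 5500 500 = true := by decide +kernel

theorem rels_okAt6000 : allFrom data.checkRels 6000 500 = true := by decide +kernel

theorem rels_okAt6500 : allFrom data.checkRels 6500 500 = true := by decide +kernel

theorem rels_okAt7000 : allFrom data.checkRels 7000 500 = true := by decide +kernel

theorem rels_okAt7500 : allFrom data.checkRels 7500 500 = true := by decide +kernel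

theorem rels_okAt8000 : allFrom data.checkRels 8000 500 = true := by decide +kernel

theorem rels_okAt8500 : allFrom data.checkRels 8500 500 = true := by decide +kernel

theorem rels_okAt9000 : allFrom data.checkRels 9000 500 = true := by decide +kernel

theorem rels_okAt9500 : allFrom data.checkRels 9500 500 = true := by decide +kernel

end Cfsg.Agent.CosetCert.SuzIndex22880
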