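import Cfsg.Agent.CosetCert.SuzIndex22880.Defs

/-! Generated: kernel checks. -/

set_option Elab.async false

namespace Cfsg.Agent.CosetCert.SuzIndex22880

theorem rels_okAt15000 : allFrom data.checkRels 15000 500 = true := by decide +kernel

theorem rels_okAt15500 : allFrom data.checkRels 15500 500 = true := by decide +kernel

theorem rels_okAt16000 : allFrom data.checkRels 16000 500 = true := by decide +kernel

theorem rels_okAt16500 : allFrom data.checkRels 16500 500 = true := by decide +kernel

theorem rels_okAt17000 : allFrom data.checkRels 17000 500 = true := by decide +kernel

theorem rels_okAt17500 : allFrom data.checkRels 17500 500 = true := by decide +kernel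

theorem rels_okAt18000 : allFrom data.checkRels 18000 500 = true := by decide +kernel

theorem rels_okAt18500 : allFrom data.checkRels 18500 500 = true := by decide +kernel

theorem rels_okAt19000 : allFrom data.checkRels 19000 500 = true := by decide +kernel

theorem rels_okAt19500 : allFrom data.checkRels 19500 500 = true := by decide +kernel

end Cfsg.Agent.CosetCert.SuzIndex22880
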