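import Cfsg.Agent.CosetCert.SuzIndex22880.Defs

/-! Generated: kernel checks. -/

set_option Elab.async false

namespace Cfsg.Agent.CosetCert.SuzIndex22880

theorem coset_okAt12000 : allFrom data.checkCoset 12000 750 = true := by decide +kernel

theorem coset_okAt12750 : allFrom data.checkCoset 12750 750 = true := by decide +kernel

theorem coset_okAt13500 : allFrom data.checkCoset 13500 750 = true := by decide +kernel

theorem coset_okAt14250 : allFrom data.checkCoset 14250 750 = true := by decide +kernel

theorem coset_okAt15000 : allFrom data.checkCoset 15000 750 = true := by decide +kernel

theorem coset_okAt15750 : allFrom data.checkCoset 15750 750 = true := by decide +kernel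

theorem coset_okAt16500 : allFrom data.checkCoset 16500 750 = true := by decide +kernel

theorem coset_okAt17250 : allFrom data.checkCoset 17250 750 = true := by decide +kernel

end Cfsg.Agent.CosetCert.SuzIndex22880
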